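import Groth.Agent.CohVanish.AffineMorphism
import Groth.Agent.QCohLib.Criterion
import Groth.Agent.QCohLib.Closure
import Groth.Agent.KerDerived.Basic
import Groth.Agent.SubtermOn.Basic
import Groth.Agent.ModGroth.FreeOn
import Groth.Agent.ModGroth.Basic

/-!
Injective modules on schemes are flasque; acyclicity for direct images of modules.
-/

set_option autoImplicit false
set_option linter.style.haveILetI false
set_option backward.isDefEq.respectTransparency false
set_option backward.isDefEq.respectTransparency.types false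
universe u

open CategoryTheory CategoryTheory.Limits Opposite TopologicalSpace AlgebraicGeometry

namespace Groth.Agent.ModPush

open CohVanish

theorem enoughInjectives (X : Scheme.{u}) : EnoughInjectives X.Modules :=
  ModGroth.sheaf_enoughInjectives X.ringCatSheaf

theorem hasInjectiveResolutions (X : Scheme.{u}) : HasInjectiveResolutions X.Modules :=
  ModGroth.sheaf_hasInjectiveResolutions X.ringCatSheaf

/-- Injective modules are flasque. -/
theorem isFlasque_toAb_of_injective {X : Scheme.{u}} (I : X.Modules) [hI : Injective I] :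
    TopCat.Sheaf.IsFlasque (X := sp X) (Coh.toAb I) := by
  suffices h : ∀ V : X.Opens, Function.Surjective (I.presheaf.map (homOfLE (le_top : V ≤ ⊤)).op) by
    refine ⟨fun {A B} i => (AddCommGrpCat.epi_iff_surjective _).2 fun s => ?_⟩
    obtain ⟨t, ht⟩ := h B.unop s
    refine ⟨I.presheaf.map (homOfLE (le_top : A.unop ≤ ⊤)).op t, ?_⟩
    rw [← ht]
    show (I.presheaf.map _ ≫ I.presheaf.map i) t = _
    rw [← Functor.map_comp]
    exact congr($(congrArg I.presheaf.map (Subsingleton.elim _ _)) t)
  intro V s
  let O : Sheaf (Opens.grothendieckTopology X) CommRingCat.{u} := X.sheaf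
  let I' : ModSite.Mod O := I
  haveI : Injective I' := hI
  have hU : ∀ W : X.Opens, Subsingleton (W ⟶ V) := fun W => inferInstance
  let β : SheafOfModules.unit (ModSite.ringSh (O.over V)) ⟶ (ModSite.restr O V).obj I' :=
    (SheafOfModules.unitHomEquiv _).symm ((ModGroth.FreeOn.overSectEquiv O V I').symm s)
  obtain ⟨α, hα⟩ := SubtermOn.restr_map_surjective hU (ModSite.unit O) I' β
  refine ⟨α.val.app (op ⊤) (1 : O.obj.obj (op ⊤)), ?_⟩
  refine (PresheafOfModules.naturality_apply α.val (homOfLE (le_top : V ≤ ⊤)).op (1 : O.obj.obj (op ⊤))).symm.trans ?_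
  show α.val.app (op V) ((O.obj.map (homOfLE (le_top : V ≤ ⊤)).op) (1 : O.obj.obj (op ⊤))) = s
  rw [map_one]
  have h1 : ((ModSite.restr O V).map α).val.app (op (Over.mk (𝟙 V))) (1 : O.obj.obj (op V)) = s := by
    rw [hα]
    exact congrArg (fun z => z.val (op (Over.mk (𝟙 V))))
      (Equiv.apply_symm_apply (SheafOfModules.unitHomEquiv _) ((ModGroth.FreeOn.overSectEquiv O V I').symm s))
      |>.trans ((ModGroth.FreeOn.overSectEquiv O V I').apply_symm_apply s)
  exact h1

variable {X Y : Scheme.{u}}

theorem isFlasque_restrict (f : X ⟶ Y) [IsOpenImmersion f] (M : Y.Modules)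
    [hM : TopCat.Sheaf.IsFlasque (X := sp Y) (Coh.toAb M)] :
    TopCat.Sheaf.IsFlasque (X := sp X) (Coh.toAb (M.restrict f)) where
  epi i := TopCat.Presheaf.IsFlasque.epi (F := (Coh.toAb M).obj) (f.opensFunctor.op.map i)

instance preservesFiniteLimits_pushforward (f : X ⟶ Y) : PreservesFiniteLimits (Scheme.Modules.pushforward f) := by
  haveI := (Scheme.Modules.pullbackPushforwardAdjunction f).rightAdjoint_preservesLimits
  infer_instance

/-- A module without higher cohomology on the preimages of a basis is acyclic for the direct image. -/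
theorem isZero_rightDerived_pushforward (f : X ⟶ Y) [HasInjectiveResolutions X.Modules]
    {ι : Type u} (B : ι → Y.Opens) (hB : Opens.IsBasis (Set.range B)) (q : ℕ) :
    ∀ (M : X.Modules), (∀ i n, Subsingleton (EU (X := sp X) (Coh.toAb M) (f ⁻¹ᵁ B i) (n + 1))) →
      IsZero (((Scheme.Modules.pushforward f).rightDerived (q + 1)).obj M) := by
  haveI := enoughInjectives X
  induction q with
  | zero =>
    intro M hM
    have hepi : Epi ((Scheme.Modules.pushforward f).map (KerDerived.emb M).g) := by
      refine QCohLib.epi_of_app_surjective _ hB ?_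
      rintro _ ⟨i, rfl⟩
      haveI : Subsingleton (EU (X := sp X) ((KerDerived.emb M).map (toAbF X)).X₁ (f ⁻¹ᵁ B i) 1) := hM i 0
      exact surjective_app_of_subsingleton (X := sp X) (shortExact_toAb (KerDerived.emb_shortExact M)) (f ⁻¹ᵁ B i)
    rw [IsZero.iff_id_eq_zero]
    let G := Scheme.Modules.pushforward f
    let p := G.rightDerivedZeroIsoSelf.inv.app (KerDerived.emb M).X₃ ≫ KerDerived.dl G 0 M
    have hp := (KerDerived.dl_desc_iff₀ G M p).1 ⟨𝟙 _, Category.comp_id _⟩
    have h0 : p = 0 := (cancel_epi (G.map (KerDerived.emb M).g)).1 (hp.trans comp_zero.symm)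
    exact (cancel_epi p).1 (by rw [Category.comp_id, comp_zero]; exact h0)
  | succ q ih =>
    intro M hM
    refine (ih (KerDerived.emb M).X₃ fun i n => ?_).of_iso (asIso (KerDerived.dl (Scheme.Modules.pushforward f) (q + 1) M)).symm
    haveI := isFlasque_toAb_of_injective (KerDerived.emb M).X₂
    haveI : Subsingleton (EU (X := sp X) ((KerDerived.emb M).map (toAbF X)).X₂ (f ⁻¹ᵁ B i) (n + 1)) :=
      subsingleton_of_flasque (X := sp X) (Coh.toAb (KerDerived.emb M).X₂) _ n
    haveI : Subsingleton (EU (X := sp X) ((KerDerived.emb M).map (toAbF X)).X₁ (f ⁻¹ᵁ B i) (n + 1 + 1)) := hM i (n + 1)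
    exact (eDelta_injective (X := sp X) (shortExact_toAb (KerDerived.emb_shortExact M)) (f ⁻¹ᵁ B i) (n + 1)).subsingleton

theorem isZero_rightDerived_pushforward_of_flasque (f : X ⟶ Y) [HasInjectiveResolutions X.Modules] (q : ℕ)
    (M : X.Modules) [TopCat.Sheaf.IsFlasque (X := sp X) (Coh.toAb M)] :
    IsZero (((Scheme.Modules.pushforward f).rightDerived (q + 1)).obj M) :=
  isZero_rightDerived_pushforward f (fun U : Y.affineOpens => (U : Y.Opens))
    (by rw [Subtype.range_coe]; exact Y.isBasis_affineOpens) q M
    fun _ n => subsingleton_of_flasque (X := sp X) _ _ n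

/-- The unit of restriction is epi on flasque modules. -/
theorem epi_unit_of_flasque (f : X ⟶ Y) [IsOpenImmersion f] (M : Y.Modules)
    [hM : TopCat.Sheaf.IsFlasque (X := sp Y) (Coh.toAb M)] :
    Epi ((Scheme.Modules.restrictAdjunction f).unit.app M) := by
  refine QCohLib.epi_of_app_surjective _ (B := Set.univ) (Opens.isBasis_iff_nbhd.2 fun hx => ⟨_, trivial, hx, le_rfl⟩) ?_
  intro U _
  rw [Scheme.Modules.restrictAdjunction_unit_app_app]
  exact (AddCommGrpCat.epi_iff_surjective _).1
    (TopCat.Presheaf.IsFlasque.epi (F := (Coh.toAb M).obj) (homOfLE (f.image_preimage_le U)).op)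

end Groth.Agent.ModPush
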