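import Groth.Agent.ModPush.Acyclic
import Groth.Agent.KerDerived.PostComp
import Groth.Agent.QCohLib.Biprod
import Groth.Agent.QCOverAlg.Basic
import Groth.Agent.SSExist.QuotZ

/-!
Higher direct images of quasi-coherent modules along quasi-compact open immersions are quasi-coherent.
-/

set_option autoImplicit false
set_option linter.style.haveILetI false
set_option backward.isDefEq.respectTransparency false
set_option backward.isDefEq.respectTransparency.types false
universe u

open CategoryTheory CategoryTheory.Limits Opposite TopologicalSpace AlgebraicGeometry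

namespace Groth.Agent.ModPush

attribute [local instance] Abelian.hasFiniteBiproducts

open CohVanish

variable {U Y V W : Scheme.{u}} (j : U ⟶ Y) (g : V ⟶ Y) (g' : W ⟶ U) (j' : W ⟶ V)
  [IsOpenImmersion j] [IsOpenImmersion g] [IsOpenImmersion g'] [IsOpenImmersion j']

lemma isIso_unit_pushforward_restrict (h : g' ≫ j = j' ≫ g)
    (hr : j ⁻¹ᵁ g.opensRange ≤ g'.opensRange) (M : U.Modules) :
    IsIso ((Scheme.Modules.restrictAdjunction j').unit.app
      (((Scheme.Modules.pushforward j).obj M).restrict g)) := by
  rw [Scheme.Modules.Hom.isIso_iff_isIso_app]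
  intro O
  rw [Scheme.Modules.restrictAdjunction_unit_app_app]
  change IsIso (M.presheaf.map ((Opens.map j.base).map (g.opensFunctor.map (homOfLE (j'.image_preimage_le O)))).op)
  have e : j ⁻¹ᵁ (g ''ᵁ (j' ''ᵁ (j' ⁻¹ᵁ O))) = j ⁻¹ᵁ (g ''ᵁ O) := by
    refine le_antisymm (j.preimage_mono (g.image_mono (j'.image_preimage_le O))) fun x hx => ?_
    obtain ⟨v, hv, hvx⟩ := hx
    obtain ⟨w, rfl⟩ := hr (show j x ∈ g.opensRange from ⟨v, hvx⟩)
    have hw : g (j' w) = j (g' w) := by
      rw [← Scheme.Hom.comp_apply, ← h, Scheme.Hom.comp_apply]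
    have : j' w = v := g.isOpenEmbedding.injective (hw.trans hvx.symm)
    exact ⟨j' w, ⟨w, show j' w ∈ O from this ▸ hv, rfl⟩, hw⟩
  rw [Subsingleton.elim ((Opens.map j.base).map (g.opensFunctor.map (homOfLE (j'.image_preimage_le O)))) (eqToHom e)]
  infer_instance

/-- Direct image commutes with restriction to opens. -/
theorem nonempty_baseChange (h : g' ≫ j = j' ≫ g) (hr : j ⁻¹ᵁ g.opensRange ≤ g'.opensRange) :
    Nonempty (Scheme.Modules.pushforward j ⋙ Scheme.Modules.restrictFunctor g ≅
      Scheme.Modules.restrictFunctor g' ⋙ Scheme.Modules.pushforward j') := by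
  let A := Scheme.Modules.pushforward j ⋙ Scheme.Modules.restrictFunctor g
  haveI : IsIso (Functor.whiskerLeft A (Scheme.Modules.restrictAdjunction j').unit) := by
    haveI : ∀ M, IsIso ((Functor.whiskerLeft A (Scheme.Modules.restrictAdjunction j').unit).app M) :=
      fun M => isIso_unit_pushforward_restrict j g g' j' h hr M
    exact NatIso.isIso_of_isIso_app _
  let e1 : A ≅ A ⋙ Scheme.Modules.restrictFunctor j' ⋙ Scheme.Modules.pushforward j' :=
    (Functor.rightUnitor A).symm ≪≫ asIso (Functor.whiskerLeft A (Scheme.Modules.restrictAdjunction j').unit)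
  let e2 : Scheme.Modules.restrictFunctor g ⋙ Scheme.Modules.restrictFunctor j' ≅
      Scheme.Modules.restrictFunctor j ⋙ Scheme.Modules.restrictFunctor g' :=
    (Scheme.Modules.restrictFunctorComp j' g).symm ≪≫ Scheme.Modules.restrictFunctorCongr h.symm ≪≫
      Scheme.Modules.restrictFunctorComp g' j
  let e3 : A ⋙ Scheme.Modules.restrictFunctor j' ≅ Scheme.Modules.restrictFunctor g' :=
    Functor.associator _ _ _ ≪≫ Functor.isoWhiskerLeft _ e2 ≪≫ (Functor.associator _ _ _).symm ≪≫
      Functor.isoWhiskerRight (Scheme.Modules.restrictFunctorAdjCounitIso j) _ ≪≫ Functor.leftUnitor _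
  exact ⟨e1 ≪≫ (Functor.associator _ _ _).symm ≪≫ Functor.isoWhiskerRight e3 _⟩

/-- Higher direct images commute with restriction to opens. -/
theorem nonempty_rightDerived_restrict (h : g' ≫ j = j' ≫ g) (hr : j ⁻¹ᵁ g.opensRange ≤ g'.opensRange)
    [HasInjectiveResolutions U.Modules] [HasInjectiveResolutions W.Modules] (n : ℕ) :
    Nonempty ((Scheme.Modules.pushforward j).rightDerived n ⋙ Scheme.Modules.restrictFunctor g ≅
      Scheme.Modules.restrictFunctor g' ⋙ (Scheme.Modules.pushforward j').rightDerived n) := by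
  haveI := enoughInjectives U
  haveI := enoughInjectives W
  haveI hlim : ∀ {A B : Scheme.{u}} (f : A ⟶ B) [IsOpenImmersion f],
      PreservesFiniteLimits (Scheme.Modules.restrictFunctor f) := fun f _ => inferInstance
  haveI hcol : ∀ {A B : Scheme.{u}} (f : A ⟶ B) [IsOpenImmersion f],
      PreservesFiniteColimits (Scheme.Modules.restrictFunctor f) := fun f _ => inferInstance
  obtain ⟨e⟩ := nonempty_baseChange j g g' j' h hr
  obtain ⟨e1⟩ := KerDerived.nonempty_postcomp_iso (Scheme.Modules.pushforward j) (Scheme.Modules.restrictFunctor g) n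
  obtain ⟨e2⟩ := KerDerived.nonempty_comp_iso (Scheme.Modules.restrictFunctor g') (Scheme.Modules.pushforward j')
    (fun I _ m => by
      haveI := isFlasque_toAb_of_injective I
      haveI := isFlasque_restrict g' I
      exact isZero_rightDerived_pushforward_of_flasque j' m _) n
  exact ⟨e1.symm ≪≫ SSExist.rightDerivedIso e n ≪≫ e2⟩

omit [IsOpenImmersion j] in
lemma mono_lift_units {k : ℕ} (W : Fin k → U.Opens) (hW : ⨆ i, W i = ⊤) (G : U.Modules) :
    Mono (biproduct.lift fun i => (Scheme.Modules.restrictAdjunction (W i).ι).unit.app G :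
      G ⟶ ⨁ fun i => (Scheme.Modules.pushforward (W i).ι).obj (G.restrict (W i).ι)) := by
  rw [QCohLib.mono_iff_app_injective]
  intro O s t hst
  refine TopCat.Sheaf.eq_of_locally_eq' ⟨G.presheaf, G.isSheaf⟩ (fun i => (W i).ι ''ᵁ ((W i).ι ⁻¹ᵁ O)) O
    (fun i => homOfLE ((W i).ι.image_preimage_le O)) (fun x hx => ?_) s t fun i => ?_
  · have hx' : x ∈ ⨆ i, W i := hW.symm ▸ trivial
    obtain ⟨i, hi⟩ := Opens.mem_iSup.1 hx'
    exact Opens.mem_iSup.2 ⟨i, ⟨x, hi⟩, hx, rfl⟩
  · have := congrArg ((biproduct.π (fun i => (Scheme.Modules.pushforward (W i).ι).obj (G.restrict (W i).ι)) i).app O) hst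
    rw [← ConcreteCategory.comp_apply, ← ConcreteCategory.comp_apply, ← Scheme.Modules.Hom.comp_app,
      biproduct.lift_π, Scheme.Modules.restrictAdjunction_unit_app_app] at this
    exact this

/-- Direct images from affine opens are acyclic for the direct image to an affine scheme. -/
lemma isZero_rightDerived_push_affine [IsAffine Y] [HasInjectiveResolutions U.Modules] (W : U.Opens) (hW : IsAffineOpen W)
    (H : (W : Scheme.{u}).Modules) [H.IsQuasicoherent] (q : ℕ) :
    IsZero (((Scheme.Modules.pushforward j).rightDerived (q + 1)).obj ((Scheme.Modules.pushforward W.ι).obj H)) := by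
  haveI : IsAffine (W : Scheme.{u}) := hW
  haveI : IsAffineHom (W.ι ≫ j) := inferInstance
  haveI : IsSeparated (terminal.from U) := by
    rw [← terminal.comp_from j]; infer_instance
  haveI : IsAffineHom W.ι :=
    MorphismProperty.of_postcomp (W := @IsAffineHom) (W' := @IsSeparated) W.ι (terminal.from U) inferInstance
      (by rw [terminal.comp_from]; infer_instance)
  refine isZero_rightDerived_pushforward j (fun V : Y.affineOpens => (V : Y.Opens))
    (by rw [Subtype.range_coe]; exact Y.isBasis_affineOpens) q _ fun V n => ?_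
  obtain ⟨e⟩ := nonempty_EU_pushforward_equiv (X := sp (W : Scheme.{u})) (Y := sp U) (f := W.ι.base)
    (fun V : U.affineOpens => (V : U.Opens)) (by rw [Subtype.range_coe]; exact U.isBasis_affineOpens) (Coh.toAb H)
    (fun V' m => subsingleton_EU_of_isAffineOpen H (V'.2.preimage W.ι) m) (j ⁻¹ᵁ (V : Y.Opens)) (n + 1)
  haveI := subsingleton_EU_of_isAffineOpen H (U := W.ι ⁻¹ᵁ (j ⁻¹ᵁ (V : Y.Opens))) (V.2.preimage (W.ι ≫ j)) n
  exact e.symm.injective.subsingleton

lemma isZero_map_biproduct {C D : Type*} [Category* C] [Category* D] [Preadditive C] [Preadditive D] [HasZeroObject D]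
    (F : C ⥤ D) [F.Additive] {k : ℕ} (f : Fin k → C) [HasBiproduct f] (h : ∀ i, IsZero (F.obj (f i))) :
    IsZero (F.obj (⨁ f)) := by
  rw [IsZero.iff_id_eq_zero, ← F.map_id, ← biproduct.total, F.map_sum]
  refine Finset.sum_eq_zero fun i _ => ?_
  rw [F.map_comp, (h i).eq_of_tgt (F.map (biproduct.π f i)) 0, zero_comp]

/-- Higher direct images of quasi-coherent modules to an affine scheme. -/
theorem isQuasicoherent_rightDerived_of_isAffine [IsAffine Y] [QuasiCompact j] [HasInjectiveResolutions U.Modules]
    (q : ℕ) : ∀ (G : U.Modules), G.IsQuasicoherent →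
      (((Scheme.Modules.pushforward j).rightDerived q).obj G).IsQuasicoherent := by
  haveI := enoughInjectives U
  induction q with
  | zero =>
    intro G hG
    haveI := hG
    haveI := QCohLib.isQuasicoherent_pushforward j (M := G)
    exact QCohLib.isQuasicoherent_of_iso ((Scheme.Modules.pushforward j).rightDerivedZeroIsoSelf.app G).symm
  | succ q ih =>
    intro G hG
    haveI := hG
    haveI : CompactSpace U := QuasiCompact.compactSpace_of_compactSpace j
    obtain ⟨s, hsub, hs, hsup⟩ := (U.isBasis_affineOpens.exists_finite_of_isCompact (U := ⊤) isCompact_univ)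
    let W : Fin hs.toFinset.card → U.Opens := fun i => (hs.toFinset.equivFin.symm i).1
    have hW : ∀ i, IsAffineOpen (W i) := fun i => hsub (hs.mem_toFinset.1 (hs.toFinset.equivFin.symm i).2)
    have hcov : ⨆ i, W i = ⊤ := by
      refine eq_top_iff.2 fun x _ => ?_
      have hx : x ∈ sSup s := hsup ▸ trivial
      obtain ⟨V, hV, hxV⟩ := Opens.mem_sSup.1 hx
      exact Opens.mem_iSup.2 ⟨hs.toFinset.equivFin ⟨V, hs.mem_toFinset.2 hV⟩, by simpa [W] using hxV⟩
    let f := fun i => (Scheme.Modules.pushforward (W i).ι).obj (G.restrict (W i).ι)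
    haveI haff : ∀ i, IsAffineHom (W i).ι := fun i => by
      haveI : IsAffine (W i : Scheme.{u}) := hW i
      haveI : IsSeparated (terminal.from U) := by
        rw [← terminal.comp_from j]; infer_instance
      exact MorphismProperty.of_postcomp (W := @IsAffineHom) (W' := @IsSeparated) (W i).ι (terminal.from U) inferInstance
        (by rw [terminal.comp_from]; infer_instance)
    let l : G ⟶ ⨁ f := biproduct.lift fun i => (Scheme.Modules.restrictAdjunction (W i).ι).unit.app G
    haveI : Mono l := mono_lift_units W hcov G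
    haveI hf : ∀ i, (f i).IsQuasicoherent := fun i =>
      haveI : QuasiCompact (W i).ι := (haveI := haff i; inferInstance)
      QCohLib.isQuasicoherent_pushforward (W i).ι (M := G.restrict (W i).ι)
    haveI hG1 : (⨁ f).IsQuasicoherent := by
      haveI := QCOverAlg.isQuasicoherent_sigma (fun i : ULift.{u} (Fin hs.toFinset.card) => f i.down) fun i => hf _
      exact QCohLib.isQuasicoherent_of_iso
        ((Sigma.whiskerEquiv Equiv.ulift fun i => Iso.refl (f i.down)) ≪≫ (biproduct.isoCoproduct f).symm)
    haveI hQ : (cokernel l).IsQuasicoherent := QCohLib.isQuasicoherent_cokernel l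
    let S : ShortComplex U.Modules := ShortComplex.mk l (cokernel.π l) (cokernel.condition l)
    have hS : S.ShortExact :=
      { exact := ShortComplex.exact_of_g_is_cokernel _ (cokernelIsCokernel l)
        mono_f := inferInstanceAs (Mono l)
        epi_g := inferInstanceAs (Epi (cokernel.π l)) }
    let T := Scheme.Modules.pushforward j
    let L := Groth.Agent.TriH.RDer.derivedLES T
    have hz : IsZero ((T.rightDerived (q + 1)).obj S.X₂) :=
      isZero_map_biproduct _ f fun i => by
        haveI : IsAffine (W i : Scheme.{u}) := hW i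
        exact isZero_rightDerived_push_affine j (W i) (hW i) _ q
    have hepi := (L.exact₁ S hS q (q + 1) rfl).epi_f (hz.eq_of_tgt _ _)
    have hex := L.exact₃ S hS q (q + 1) rfl
    haveI := ih S.X₂ hG1
    haveI := ih S.X₃ hQ
    haveI := QCohLib.isQuasicoherent_cokernel ((T.rightDerived q).map S.g)
    haveI := hepi
    let S' := ShortComplex.mk ((T.rightDerived q).map S.g) (L.δ S hS q (q + 1) rfl) (L.comp_δ S hS q (q + 1) rfl)
    haveI : Epi S'.g := hepi
    exact QCohLib.isQuasicoherent_of_iso (M := cokernel ((T.rightDerived q).map S.g))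
      ((cokernelIsCokernel S'.f).coconePointUniqueUpToIso (ShortComplex.Exact.gIsCokernel (S := S') hex))

/-- Higher direct images along quasi-compact open immersions preserve quasi-coherence. -/
theorem isQuasicoherent_rightDerived {U Y : Scheme.{u}} (j : U ⟶ Y) [IsOpenImmersion j] [QuasiCompact j]
    [HasInjectiveResolutions U.Modules] (q : ℕ) (G : U.Modules) [G.IsQuasicoherent] :
    (((Scheme.Modules.pushforward j).rightDerived q).obj G).IsQuasicoherent := by
  rw [QCohLib.isQuasicoherent_iff_affine]
  intro V
  let g := V.2.fromSpec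
  haveI := hasInjectiveResolutions (pullback j g)
  obtain ⟨e⟩ := nonempty_rightDerived_restrict j g (pullback.fst j g) (pullback.snd j g) pullback.condition
    (by rw [Scheme.Hom.opensRange_pullbackFst]) q
  haveI : (G.restrict (pullback.fst j g)).IsQuasicoherent := inferInstance
  haveI : ((Scheme.Modules.restrictFunctor (pullback.fst j g) ⋙
      (Scheme.Modules.pushforward (pullback.snd j g)).rightDerived q).obj G).IsQuasicoherent :=
    isQuasicoherent_rightDerived_of_isAffine (pullback.snd j g) q (G.restrict (pullback.fst j g)) inferInstance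
  exact QCohLib.isQuasicoherent_of_iso (e.app G).symm

end Groth.Agent.ModPush
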